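/-
Groups in which the centraliser of an involution is an abelian trivial intersection subgroup
equal to the centraliser of each of its non-identity elements: the local facts.
-/
import Mathlib.GroupTheory.GroupAction.Quotient
import Mathlib.GroupTheory.Index
import Mathlib.GroupTheory.PGroup
import Mathlib.Data.Nat.Choose.Basic
import Mathlib.Tactic.Group
import Mathlib.Tactic.Ring
import Mathlib.Tactic.Linarith

set_option autoImplicit false
set_option linter.unusedSectionVars false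
set_option maxHeartbeats 600000

namespace CfsgLib.CAEven

open Subgroup

variable (G : Type*) [Group G]

/-- `A` is the centraliser of each of its non-identity elements, it contains the involution `s`,
every involution is conjugate to `s`, and `A` is not normal. -/
structure Setup where
  A : Subgroup G
  s : G
  ord : orderOf s = 2
  mem : s ∈ A
  cent : ∀ x ∈ A, x ≠ 1 → centralizer ({x} : Set G) = A
  conj : ∀ t : G, orderOf t = 2 → ∃ g : G, t = g * s * g⁻¹
  notNormal : normalizer (A : Set G) ≠ ⊤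

variable {G} [Finite G] (S : Setup G)

namespace Setup

/-- The normaliser of `A`. -/
abbrev N : Subgroup G := normalizer (S.A : Set G)

theorem comm {x y : G} (hx : x ∈ S.A) (hy : y ∈ S.A) : x * y = y * x := by
  by_cases h : y = 1
  · simp [h]
  · rw [← S.cent y hy h] at hx
    exact mem_centralizer_singleton_iff.mp hx

theorem mem_of_comm {x y : G} (hx : x ∈ S.A) (hx1 : x ≠ 1) (h : y * x = x * y) : y ∈ S.A := by
  rw [← S.cent x hx hx1]
  exact mem_centralizer_singleton_iff.mpr h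

theorem ti {g x : G} (hx : x ∈ S.A) (hx1 : x ≠ 1) (h : g * x * g⁻¹ ∈ S.A) : g ∈ S.N := by
  have h1 : g * x * g⁻¹ ≠ 1 := fun e => hx1 (conj_eq_one_iff.mp e)
  refine mem_normalizer_iff.mpr fun y => ⟨fun hy => S.mem_of_comm h h1 ?_, fun hy => S.mem_of_comm hx hx1 ?_⟩
  · calc g * y * g⁻¹ * (g * x * g⁻¹) = g * (y * x) * g⁻¹ := by group
      _ = g * (x * y) * g⁻¹ := by rw [S.comm hy hx]
      _ = _ := by group
  · calc y * x = g⁻¹ * (g * y * g⁻¹ * (g * x * g⁻¹)) * g := by group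
      _ = g⁻¹ * (g * x * g⁻¹ * (g * y * g⁻¹)) * g := by rw [S.comm hy h]
      _ = x * y := by group

theorem s_ne : S.s ≠ 1 := fun e => by have := S.ord; rw [e, orderOf_one] at this; omega

theorem s_sq : S.s * S.s = 1 := by
  rw [← pow_two, ← S.ord]
  exact pow_orderOf_eq_one _

theorem A_le_N : S.A ≤ S.N := Subgroup.le_normalizer

/-- The elements of `A` squaring to the identity. -/
def Om : Subgroup G where
  carrier := {x | x ∈ S.A ∧ x * x = 1}
  one_mem' := ⟨one_mem _, one_mul _⟩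
  mul_mem' := by
    rintro a b ⟨ha, ha2⟩ ⟨hb, hb2⟩
    refine ⟨mul_mem ha hb, ?_⟩
    calc a * b * (a * b) = a * (b * a) * b := by group
      _ = a * (a * b) * b := by rw [S.comm hb ha]
      _ = (a * a) * (b * b) := by group
      _ = 1 := by rw [ha2, hb2, mul_one]
  inv_mem' := by
    rintro a ⟨ha, ha2⟩
    exact ⟨inv_mem ha, by rw [← mul_inv_rev, ha2, inv_one]⟩

theorem mem_Om {x : G} : x ∈ S.Om ↔ x ∈ S.A ∧ x * x = 1 := Iff.rfl

theorem Om_le : S.Om ≤ S.A := fun _ hx => hx.1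

/-- The number of involutions in `A`. -/
noncomputable def j : ℕ := Nat.card {x : G // x ∈ S.Om ∧ x ≠ 1}

theorem card_Om : Nat.card S.Om = S.j + 1 := by
  classical
  rw [j, ← Finite.card_option]
  refine (Nat.card_congr (⟨fun o => o.elim (1 : S.Om) fun x => ⟨x.1, x.2.1⟩,
    fun x => if hx : (x : G) = 1 then none else some ⟨x, x.2, hx⟩, ?_, ?_⟩ :
      Option {x : G // x ∈ S.Om ∧ x ≠ 1} ≃ S.Om)).symm
  · rintro (_ | x)
    · simp
    · simp [x.2.2]
  · intro x
    by_cases hx : (x : G) = 1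
    · simp only [hx, dite_true, Option.elim]
      exact Subtype.ext hx.symm
    · simp [hx]

theorem j_odd : Odd S.j := by
  have h2 : orderOf (⟨S.s, S.mem, S.s_sq⟩ : S.Om) = 2 := by
    rw [← Subgroup.orderOf_coe]; exact S.ord
  have h : 2 ∣ Nat.card S.Om := h2 ▸ orderOf_dvd_natCard _
  rw [card_Om] at h
  rw [Nat.odd_iff]
  omega

theorem j_pos : 0 < S.j := by
  have := S.j_odd
  rcases Nat.eq_zero_or_pos S.j with h | h
  · rw [h] at this; exact absurd this (by decide)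
  · exact h

theorem invol_iff {x : G} : orderOf x = 2 ∧ x ∈ S.A ↔ x ∈ S.Om ∧ x ≠ 1 := by
  constructor
  · rintro ⟨h1, h2⟩
    refine ⟨⟨h2, ?_⟩, fun e => by rw [e, orderOf_one] at h1; omega⟩
    rw [← pow_two, ← h1]
    exact pow_orderOf_eq_one _
  · rintro ⟨⟨h1, h2⟩, h3⟩
    exact ⟨orderOf_eq_prime (by rw [pow_two]; exact h2) h3, h1⟩

theorem fusion {t : G} (ht : t ∈ S.Om) (ht1 : t ≠ 1) : ∃ y ∈ S.N, t = y * S.s * y⁻¹ := by
  obtain ⟨h1, h2⟩ := S.invol_iff.mpr ⟨ht, ht1⟩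
  obtain ⟨g, e⟩ := S.conj t h1
  exact ⟨g, S.ti S.mem S.s_ne (e ▸ h2), e⟩

theorem conj_mem_A {y x : G} (hy : y ∈ S.N) (hx : x ∈ S.A) : y * x * y⁻¹ ∈ S.A :=
  (mem_normalizer_iff.mp hy x).mp hx

theorem conj_mem_A' {y x : G} (hy : y ∈ S.N) (hx : x ∈ S.A) : y⁻¹ * x * y ∈ S.A := by
  simpa using S.conj_mem_A (inv_mem hy) hx

theorem conj_mem_Om {y x : G} (hy : y ∈ S.N) (hx : x ∈ S.Om) : y * x * y⁻¹ ∈ S.Om := by
  refine ⟨S.conj_mem_A hy hx.1, ?_⟩
  calc y * x * y⁻¹ * (y * x * y⁻¹) = y * (x * x) * y⁻¹ := by group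
    _ = 1 := by rw [hx.2]; group

instance normal_in_N : (S.A.subgroupOf S.N).Normal := Subgroup.normal_in_normalizer

/-- The action of the normaliser on the non-identity elements of `A`. -/
@[reducible] def actA : MulAction S.N {x : G // x ∈ S.A ∧ x ≠ 1} where
  smul y x := ⟨(y : G) * x.1 * (y : G)⁻¹, S.conj_mem_A y.2 x.2.1, fun e => x.2.2 (conj_eq_one_iff.mp e)⟩
  one_smul x := Subtype.ext (show ((1 : S.N) : G) * x.1 * ((1 : S.N) : G)⁻¹ = x.1 by simp)
  mul_smul a b x := Subtype.ext (show ((a * b : S.N) : G) * x.1 * ((a * b : S.N) : G)⁻¹ =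
    (a : G) * ((b : G) * x.1 * (b : G)⁻¹) * (a : G)⁻¹ by push_cast; group)

end Setup

/-- An action with all point stabilisers of one index has size divisible by that index. -/
theorem card_eq_orbits_mul {K X : Type*} [Group K] [Finite K] [MulAction K X] [Finite X] {n : ℕ}
    (h : ∀ x : X, (MulAction.stabilizer K x).index = n) :
    Nat.card X = Nat.card (MulAction.orbitRel.Quotient K X) * n := by
  classical
  have := Fintype.ofFinite (MulAction.orbitRel.Quotient K X)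
  rw [Nat.card_congr (MulAction.selfEquivSigmaOrbitsQuotientStabilizer K X), Nat.card_sigma,
    Finset.sum_congr rfl (fun q _ => show Nat.card (K ⧸ MulAction.stabilizer K (Quotient.out q)) = n from
      (Subgroup.index_eq_card _).symm.trans (h _)), Finset.sum_const, Finset.card_univ, smul_eq_mul,
    Nat.card_eq_fintype_card (α := MulAction.orbitRel.Quotient K X)]

namespace Setup

theorem stab_A (x : {x : G // x ∈ S.A ∧ x ≠ 1}) :
    (letI := S.actA; MulAction.stabilizer S.N x) = S.A.subgroupOf S.N := by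
  letI := S.actA
  ext y
  rw [MulAction.mem_stabilizer_iff, mem_subgroupOf]
  constructor
  · intro e
    have e' : (y : G) * x.1 * (y : G)⁻¹ = x.1 := congrArg Subtype.val e
    exact S.mem_of_comm x.2.1 x.2.2 (mul_inv_eq_iff_eq_mul.mp e')
  · intro hy
    refine Subtype.ext ?_
    show (y : G) * x.1 * (y : G)⁻¹ = x.1
    rw [S.comm hy x.2.1, mul_inv_cancel_right]

theorem index_A : (S.A.subgroupOf S.N).index = S.j := by
  letI := S.actA
  rw [← S.stab_A ⟨S.s, S.mem, S.s_ne⟩, MulAction.index_stabilizer, ← Nat.card_coe_set_eq, j]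
  refine Nat.card_congr ⟨fun p => ⟨p.1.1, ?_, p.1.2.2⟩, fun t => ⟨⟨t.1, t.2.1.1, t.2.2⟩, ?_⟩,
    fun _ => rfl, fun _ => rfl⟩
  · obtain ⟨y, hy⟩ := p.2
    rw [← show (y : G) * S.s * (y : G)⁻¹ = p.1.1 from congrArg Subtype.val hy]
    exact S.conj_mem_Om y.2 ⟨S.mem, S.s_sq⟩
  · obtain ⟨y, hy, e⟩ := S.fusion t.2.1 t.2.2
    exact ⟨⟨y, hy⟩, Subtype.ext e.symm⟩

theorem card_N : Nat.card S.N = Nat.card S.A * S.j := by
  rw [← S.index_A, ← Nat.card_congr (Subgroup.subgroupOfEquivOfLe S.A_le_N).toEquiv,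
    Subgroup.card_mul_index]

theorem j_dvd : S.j ∣ Nat.card S.A - 1 := by
  classical
  letI := S.actA
  have h := card_eq_orbits_mul (K := S.N) (X := {x : G // x ∈ S.A ∧ x ≠ 1}) (n := S.j)
    (fun x => by rw [S.stab_A x, S.index_A])
  refine ⟨Nat.card (MulAction.orbitRel.Quotient S.N {x : G // x ∈ S.A ∧ x ≠ 1}), ?_⟩
  rw [mul_comm, ← h]
  have e : Nat.card S.A = Nat.card {x : G // x ∈ S.A ∧ x ≠ 1} + 1 := by
    rw [← Finite.card_option]
    refine (Nat.card_congr (⟨fun o => o.elim (1 : S.A) fun x => ⟨x.1, x.2.1⟩,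
      fun x => if hx : (x : G) = 1 then none else some ⟨x, x.2, hx⟩, ?_, ?_⟩ :
        Option {x : G // x ∈ S.A ∧ x ≠ 1} ≃ S.A)).symm
    · rintro (_ | x)
      · simp
      · simp [x.2.2]
    · intro x
      by_cases hx : (x : G) = 1
      · simp only [hx, dite_true, Option.elim]
        exact Subtype.ext hx.symm
      · simp [hx]
  omega

theorem coprime_j : (Nat.card S.A).Coprime S.j := by
  obtain ⟨c, hc⟩ := S.j_dvd
  have hp : 0 < Nat.card S.A := Nat.card_pos
  have e : Nat.card S.A = 1 + S.j * c := by omega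
  rw [e]
  exact Nat.coprime_add_mul_left_left 1 S.j c |>.mpr (Nat.coprime_one_left _)

theorem pow_j_mem {y : G} (hy : y ∈ S.N) : y ^ S.j ∈ S.A := by
  have := Subgroup.pow_index_mem (S.A.subgroupOf S.N) (⟨y, hy⟩ : S.N)
  rw [S.index_A, mem_subgroupOf] at this
  simpa using this

theorem invol_N_mem_A {t : G} (ht : t ∈ S.N) (h2 : t * t = 1) : t ∈ S.A := by
  obtain ⟨k, hk⟩ := S.j_odd
  have := S.pow_j_mem ht
  rwa [hk, pow_succ, pow_mul, pow_two, h2, one_pow, one_mul] at this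

theorem mem_A_of_mem_N {y : G} (hy : y ∈ S.N) (h : y ^ Nat.card S.A = 1) : y ∈ S.A := by
  have h1 := S.pow_j_mem hy
  have h2 : y ^ Nat.gcd (Nat.card S.A) S.j ∈ S.A := by
    obtain ⟨u, v, huv⟩ : ∃ u v : ℤ, (Nat.gcd (Nat.card S.A) S.j : ℤ) = Nat.card S.A * u + S.j * v :=
      ⟨_, _, Nat.gcd_eq_gcd_ab _ _⟩
    rw [← zpow_natCast, huv, zpow_add, zpow_mul, zpow_mul, zpow_natCast, zpow_natCast, h, one_zpow, one_mul]
    exact zpow_mem h1 v
  rwa [S.coprime_j.gcd_eq_one, pow_one] at h2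

theorem index_N : Nat.card S.A + 1 ≤ S.N.index := by
  classical
  obtain ⟨g₀, hg₀⟩ : ∃ g : G, g ∉ S.N := by
    by_contra h
    push Not at h
    exact S.notNormal ((Subgroup.eq_top_iff' _).mpr h)
  rw [Subgroup.index_eq_card, ← Finite.card_option]
  refine Nat.card_le_card_of_injective
    (fun o : Option S.A => o.elim ((1 : G) : G ⧸ S.N) fun x => (((x : G) * g₀ : G) : G ⧸ S.N)) ?_
  have key : ∀ z : G, z ∈ S.A → g₀⁻¹ * z * g₀ ∈ S.N → z = 1 := by
    intro z hz hN
    by_contra hz1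
    have h1 : g₀⁻¹ * z * g₀ ∈ S.A := S.mem_A_of_mem_N hN (by
      have h2 : g₀⁻¹ * z * g₀ = g₀⁻¹ * z * (g₀⁻¹)⁻¹ := by rw [inv_inv]
      have h3 : z ^ Nat.card S.A = 1 := by
        have := pow_card_eq_one' (x := (⟨z, hz⟩ : S.A))
        simpa only [SubmonoidClass.coe_pow, OneMemClass.coe_one] using congrArg Subtype.val this
      rw [h2, conj_pow, h3, mul_one, mul_inv_cancel])
    exact hg₀ (inv_mem_iff.mp (S.ti hz hz1 (g := g₀⁻¹) (by simpa using h1)))
  have hne : ∀ x : S.A, ((1 : G) : G ⧸ S.N) ≠ (((x : G) * g₀ : G) : G ⧸ S.N) := fun x e => by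
    rw [QuotientGroup.eq, inv_one, one_mul] at e
    exact hg₀ (((S.N).mul_mem_cancel_left (S.A_le_N x.2)).mp e)
  rintro (_ | x) (_ | x') e
  · rfl
  · exact absurd e (hne x')
  · exact absurd e.symm (hne x)
  · have e' := QuotientGroup.eq.mp e
    rw [show ((x : G) * g₀)⁻¹ * ((x' : G) * g₀) = g₀⁻¹ * ((x : G)⁻¹ * x') * g₀ by group] at e'
    exact congrArg some (Subtype.ext (inv_mul_eq_one.mp (key _ (mul_mem (inv_mem x.2) x'.2) e')))

theorem card_G : Nat.card G = Nat.card S.A * S.j * S.N.index := by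
  rw [← S.card_N, Subgroup.card_mul_index]

/-- A product `g s g⁻¹ s` conjugate to a non-identity element of `A` lies in `A`. -/
theorem product_mem {g c : G} (h : c⁻¹ * (g * S.s * g⁻¹ * S.s) * c ∈ S.A)
    (h1 : g * S.s * g⁻¹ * S.s ≠ 1) : g * S.s * g⁻¹ * S.s ∈ S.A := by
  set y := g * S.s * g⁻¹ * S.s with hy
  set y' := c⁻¹ * y * c with hy'
  set s' := c⁻¹ * S.s * c with hs'
  have hs2 := S.s_sq
  have hsi : S.s⁻¹ = S.s := inv_eq_of_mul_eq_one_right hs2
  have hinv : s' * y' * s'⁻¹ = y'⁻¹ := by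
    rw [hs', hy', hy]
    rw [show c⁻¹ * S.s * c * (c⁻¹ * (g * S.s * g⁻¹ * S.s) * c) * (c⁻¹ * S.s * c)⁻¹ =
      c⁻¹ * (S.s * (g * S.s * g⁻¹) * (S.s * S.s⁻¹)) * c by group,
      show (c⁻¹ * (g * S.s * g⁻¹ * S.s) * c)⁻¹ = c⁻¹ * (S.s⁻¹ * (g * S.s⁻¹ * g⁻¹)) * c by group,
      mul_inv_cancel, mul_one, hsi]
  have hy'1 : y' ≠ 1 := fun e => h1 (by
    rw [hy'] at e
    exact (conj_eq_one_iff (a := c⁻¹) (b := y)).mp (by rw [inv_inv]; exact e))
  have hs'N : s' ∈ S.N := S.ti h hy'1 (by rw [hinv]; exact inv_mem h)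
  have hs'A : s' ∈ S.A := S.invol_N_mem_A hs'N (by
    rw [hs', show c⁻¹ * S.s * c * (c⁻¹ * S.s * c) = c⁻¹ * (S.s * S.s) * c by group, hs2]; group)
  refine S.mem_of_comm S.mem S.s_ne ?_
  calc y * S.s = c * (y' * s') * c⁻¹ := by rw [hy', hs']; group
    _ = c * (s' * y') * c⁻¹ := by rw [S.comm h hs'A]
    _ = S.s * y := by rw [hy', hs']; group

end Setup

end CfsgLib.CAEven
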