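/-
Groups in which the centraliser of an involution is an abelian trivial intersection subgroup:
the centraliser is an elementary abelian group, by induced differences of linear characters.
-/
import Cfsg.Agent.Lib.CAEven.Setup
import Cfsg.Agent.Lib.CharTheory.TI
import Cfsg.Agent.Lib.CharTheory.Schur
import Cfsg.Agent.Lib.CharTheory.Integral
import Cfsg.Agent.Lib.CharTheory.Linear
import Mathlib.GroupTheory.FiniteAbelian.Duality
import Mathlib.Analysis.SpecialFunctions.Complex.CircleAddChar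
import Mathlib.RingTheory.RootsOfUnity.AlgebraicallyClosed
import Mathlib.Analysis.Complex.Polynomial.Basic

set_option autoImplicit false
set_option linter.unusedSectionVars false
set_option maxHeartbeats 600000

namespace CfsgLib.CAEven

open Subgroup Cfsg CfsgLib.CharTheory
open scoped ComplexConjugate

universe u
variable {G : Type u} [Group G] [Finite G] (S : Setup G)

namespace Setup

/-- Conjugation of `A` by an element of its normaliser. -/
def cA (y : S.N) : S.A →* S.A where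
  toFun x := ⟨(y : G)⁻¹ * x * y, S.conj_mem_A' y.2 x.2⟩
  map_one' := Subtype.ext (show (y : G)⁻¹ * ((1 : S.A) : G) * y = ((1 : S.A) : G) by simp)
  map_mul' a b := Subtype.ext
    (show (y : G)⁻¹ * ((a : G) * b) * y = (y : G)⁻¹ * a * y * ((y : G)⁻¹ * b * y) by group)

theorem cA_val (y : S.N) (x : S.A) : ((S.cA y x : S.A) : G) = (y : G)⁻¹ * x * y := rfl

/-- The linear characters not trivial on the elementary part. -/
abbrev Chs : Type u := {φ : S.A →* ℂˣ // ∃ x : S.A, (x : G) ∈ S.Om ∧ φ x ≠ 1}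

/-- The action of the normaliser on those characters. -/
@[reducible] def actC : MulAction S.N S.Chs where
  smul y φ := ⟨φ.1.comp (S.cA y), by
    obtain ⟨x, hx, h⟩ := φ.2
    refine ⟨⟨(y : G) * x * (y : G)⁻¹, S.conj_mem_A y.2 x.2⟩, S.conj_mem_Om y.2 hx, ?_⟩
    rw [MonoidHom.comp_apply]
    intro e
    refine h ((congrArg φ.1 (Subtype.ext ?_)).trans e)
    rw [cA_val]
    group⟩
  one_smul φ := Subtype.ext (MonoidHom.ext fun x => congrArg φ.1 (Subtype.ext
    (show ((1 : S.N) : G)⁻¹ * x * ((1 : S.N) : G) = x by simp)))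
  mul_smul a b φ := Subtype.ext (MonoidHom.ext fun x => congrArg φ.1 (Subtype.ext
    (show ((a * b : S.N) : G)⁻¹ * x * ((a * b : S.N) : G) =
      (b : G)⁻¹ * ((a : G)⁻¹ * x * (a : G)) * (b : G) by push_cast; group)))

theorem cA_eq_self {y : S.N} (hy : (y : G) ∈ S.A) (x : S.A) : S.cA y x = x := by
  apply Subtype.ext
  rw [cA_val, mul_assoc, S.comm x.2 hy, inv_mul_cancel_left]

/-- A non-trivial character is fixed only by elements of `A`. -/
theorem fixed_mem {φ : S.A →* ℂˣ} (hφ : φ ≠ 1) {y : S.N} (h : φ.comp (S.cA y) = φ) : (y : G) ∈ S.A := by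
  by_contra hy
  let f : S.A → S.A := fun x => S.cA y x * x⁻¹
  have hinj : Function.Injective f := by
    intro a b e
    have e' : (y : G)⁻¹ * a * y * (a : G)⁻¹ = (y : G)⁻¹ * b * y * (b : G)⁻¹ := congrArg Subtype.val e
    by_contra hab
    have hz : (b : G)⁻¹ * a ≠ 1 := fun e1 => hab (Subtype.ext (inv_mul_eq_one.mp e1).symm)
    refine hy (S.mem_of_comm (mul_mem (inv_mem b.2) a.2) hz ?_)
    calc (y : G) * ((b : G)⁻¹ * a)
        = (b : G)⁻¹ * a * y := ?_
      _ = _ := rfl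
    have e2 : (y : G)⁻¹ * ((b : G)⁻¹ * a) * y = (b : G)⁻¹ * a := by
      calc (y : G)⁻¹ * ((b : G)⁻¹ * a) * y
          = ((y : G)⁻¹ * b * y)⁻¹ * ((y : G)⁻¹ * a * y * (a : G)⁻¹) * a := by group
        _ = ((y : G)⁻¹ * b * y)⁻¹ * ((y : G)⁻¹ * b * y * (b : G)⁻¹) * a := by rw [e']
        _ = _ := by group
    calc (y : G) * ((b : G)⁻¹ * a) = y * ((y : G)⁻¹ * ((b : G)⁻¹ * a) * y) := by rw [e2]
      _ = _ := by group
  refine hφ (MonoidHom.ext fun z => ?_)
  obtain ⟨x, hx⟩ := (Finite.injective_iff_surjective.mp hinj) z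
  rw [← hx, MonoidHom.one_apply]
  show φ (S.cA y x * x⁻¹) = 1
  rw [map_mul, ← MonoidHom.comp_apply, h, ← map_mul, mul_inv_cancel, map_one]

theorem comp_cA_eq_iff {φ : S.A →* ℂˣ} (hφ : φ ≠ 1) (y : S.N) :
    φ.comp (S.cA y) = φ ↔ (y : G) ∈ S.A :=
  ⟨S.fixed_mem hφ, fun hy => MonoidHom.ext fun x => congrArg φ (S.cA_eq_self hy x)⟩

theorem chs_ne (φ : S.Chs) : φ.1 ≠ 1 := fun e => by
  obtain ⟨x, -, h⟩ := φ.2
  exact h (by rw [e]; rfl)

theorem index_stab_C (φ : S.Chs) : (letI := S.actC; MulAction.stabilizer S.N φ).index = S.j := by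
  letI := S.actC
  rw [← S.index_A]
  congr 1
  ext y
  rw [MulAction.mem_stabilizer_iff, mem_subgroupOf, ← S.comp_cA_eq_iff (S.chs_ne φ) y]
  exact ⟨fun e => congrArg Subtype.val e, fun e => Subtype.ext e⟩

/-- A linear character as a function. -/
def lin (φ : S.A →* ℂˣ) : S.A → ℂ := fun x => (φ x : ℂ)

theorem lin_inj {φ χ : S.A →* ℂˣ} (h : S.lin φ = S.lin χ) : φ = χ :=
  MonoidHom.ext fun x => Units.ext (congrFun h x)

theorem inner_lin [Fintype S.A] (φ χ : S.A →* ℂˣ) [Decidable (φ = χ)] :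
    classInner (S.lin φ) (S.lin χ) = if φ = χ then 1 else 0 := by
  classical
  rw [classInner_irr (χ := S.lin φ) (ψ := S.lin χ) (isIrrCharacter_linear φ) (isIrrCharacter_linear χ)]
  exact if_congr ⟨S.lin_inj, fun e => e ▸ rfl⟩ rfl rfl

/-- The difference of two linear characters. -/
noncomputable def psi (φ₀ φ : S.A →* ℂˣ) : S.A → ℂ := S.lin φ₀ - S.lin φ

theorem psi_one (φ₀ φ : S.A →* ℂˣ) : S.psi φ₀ φ 1 = 0 := by simp [psi, lin]

variable [Fintype G]

open scoped Classical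

/-- The induced difference. -/
noncomputable def tau (φ₀ φ : S.A →* ℂˣ) : G → ℂ := indFun S.A (S.psi φ₀ φ)

theorem tau_gen (φ₀ φ : S.A →* ℂˣ) : IsGeneralizedCharacter G (S.tau φ₀ φ) :=
  isGenChar_indFun S.A (isGenChar_sub (isGenChar_of_char (isCharacter_of_irr (isIrrCharacter_linear φ₀)))
    (isGenChar_of_char (isCharacter_of_irr (isIrrCharacter_linear φ))))

theorem tau_one (φ₀ φ : S.A →* ℂˣ) : S.tau φ₀ φ 1 = 0 := by
  rw [tau, indFun_apply_one, S.psi_one, mul_zero]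

theorem tau_apply (φ₀ φ : S.A →* ℂˣ) (x : S.A) :
    S.tau φ₀ φ (x : G) = (Nat.card S.A : ℂ)⁻¹ * ∑ y : S.N, S.psi φ₀ φ (S.cA y x) := by
  classical
  show (Nat.card S.A : ℂ)⁻¹ * ∑ g : G, extendByZero S.A (S.psi φ₀ φ) (g⁻¹ * x * g) = _
  congr 1
  rw [← Finset.sum_filter_add_sum_filter_not Finset.univ (· ∈ S.N),
    Finset.sum_eq_zero (s := Finset.univ.filter fun g => ¬ g ∈ S.N) (fun g hg => ?_), add_zero,
    Finset.sum_subtype (p := (· ∈ S.N)) _ (fun g => by simp)]
  · exact Finset.sum_congr rfl fun y _ => extendByZero_of_mem _ _ (S.conj_mem_A' y.2 x.2)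
  · have hgN := (Finset.mem_filter.mp hg).2
    by_cases hx : (x : G) = 1
    · rw [hx, mul_one, inv_mul_cancel, extendByZero_of_mem _ _ (one_mem _)]
      exact S.psi_one φ₀ φ
    · refine extendByZero_of_not_mem _ _ fun hmem => hgN ?_
      exact inv_mem_iff.mp (S.ti x.2 hx (g := g⁻¹) (by simpa using hmem))

theorem sum_mem_A : ∑ y : S.N, (if (y : G) ∈ S.A then (1 : ℂ) else 0) = Nat.card S.A := by
  classical
  rw [Finset.sum_boole, ← Nat.card_congr (Subgroup.subgroupOfEquivOfLe S.A_le_N).toEquiv,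
    Nat.card_eq_fintype_card, Fintype.card_subtype]
  congr 2

theorem gram (φ₀ φ χ : S.A →* ℂˣ) (h0 : φ₀ ≠ 1) (h1 : φ ≠ 1)
    (hφ : ∀ y : S.N, φ ≠ φ₀.comp (S.cA y)) (hχ : ∀ y : S.N, φ₀ ≠ χ.comp (S.cA y))
    (hφχ : φ ≠ χ → ∀ y : S.N, φ ≠ χ.comp (S.cA y)) :
    classInner (S.tau φ₀ φ) (S.tau φ₀ χ) = if φ = χ then 2 else 1 := by
  classical
  have ha : (Nat.card S.A : ℂ) ≠ 0 := Nat.cast_ne_zero.mpr Nat.card_pos.ne'
  unfold tau
  rw [frobenius_reciprocity S.A _ (indFun_isClassFunction _ _)]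
  have e : (fun x : S.A => indFun S.A (S.psi φ₀ χ) (x : G)) =
      (Nat.card S.A : ℂ)⁻¹ • ∑ y : S.N, (S.lin (φ₀.comp (S.cA y)) - S.lin (χ.comp (S.cA y))) := by
    funext x
    rw [Pi.smul_apply, Finset.sum_apply, smul_eq_mul]
    exact S.tau_apply φ₀ χ x
  rw [e, classInner_smul_right, classInner_sum_right]
  have key : ∀ y : S.N, classInner (S.psi φ₀ φ) (S.lin (φ₀.comp (S.cA y)) - S.lin (χ.comp (S.cA y))) =
      (if (y : G) ∈ S.A then (1 : ℂ) else 0) * (if φ = χ then 2 else 1) := by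
    intro y
    rw [psi, classInner_sub_left, classInner_sub_right, classInner_sub_right, inner_lin, inner_lin, inner_lin,
      inner_lin, if_neg (hχ y), if_neg (hφ y)]
    by_cases hy : (y : G) ∈ S.A
    · rw [if_pos hy, (S.comp_cA_eq_iff h0 y).mpr hy, if_pos rfl, one_mul]
      by_cases hc : φ = χ
      · subst hc
        rw [if_pos rfl, (S.comp_cA_eq_iff h1 y).mpr hy, if_pos rfl]
        norm_num
      · rw [if_neg hc, if_neg (hφχ hc y)]
        norm_num
    · rw [if_neg hy, if_neg (fun e0 => hy ((S.comp_cA_eq_iff h0 y).mp e0.symm)), zero_mul]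
      by_cases hc : φ = χ
      · subst hc
        rw [if_neg (fun e0 => hy ((S.comp_cA_eq_iff h1 y).mp e0.symm))]
        norm_num
      · rw [if_neg (hφχ hc y)]
        norm_num
  rw [Finset.sum_congr rfl fun y _ => key y, ← Finset.sum_mul, S.sum_mem_A, map_inv₀, map_natCast,
    ← mul_assoc, inv_mul_cancel₀ ha, one_mul]

theorem sum_lin_Om (φ : S.A →* ℂˣ) (x₀ : S.A) (hx₀ : (x₀ : G) ∈ S.Om) (h : φ x₀ ≠ 1) :
    ∑ t : S.Om, (φ (Subgroup.inclusion S.Om_le t) : ℂ) = 0 := by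
  have e : ∑ t : S.Om, (φ (Subgroup.inclusion S.Om_le t) : ℂ) =
      (φ x₀ : ℂ) * ∑ t : S.Om, (φ (Subgroup.inclusion S.Om_le t) : ℂ) := by
    rw [Finset.mul_sum]
    refine (Fintype.sum_equiv (Equiv.mulLeft (⟨x₀, hx₀⟩ : S.Om)) _ _ fun t => ?_).symm
    rw [← Units.val_mul, ← map_mul]
    rfl
  have h' : (φ x₀ : ℂ) - 1 ≠ 0 := sub_ne_zero.mpr fun e1 => h (Units.ext e1)
  refine (mul_eq_zero.mp ?_).resolve_left h'
  rw [sub_mul, one_mul, ← e, sub_self]

theorem conj_fiber (f : G → ℂ) :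
    ∑ y : S.N, f ((y : G)⁻¹ * S.s * y) = (Nat.card S.A : ℂ) * ∑ t : {x : G // x ∈ S.Om ∧ x ≠ 1}, f t := by
  classical
  let F : S.N → {x : G // x ∈ S.Om ∧ x ≠ 1} := fun y => ⟨(y : G)⁻¹ * S.s * y,
    by simpa using S.conj_mem_Om (inv_mem y.2) ⟨S.mem, S.s_sq⟩,
    fun e => S.s_ne ((conj_eq_one_iff (a := (y : G)⁻¹) (b := S.s)).mp (by simpa using e))⟩
  rw [← Finset.sum_fiberwise Finset.univ F, Finset.mul_sum]
  refine Finset.sum_congr rfl fun t _ => ?_
  have hval : ∀ y : S.N, y ∈ (Finset.univ.filter fun z => F z = t) → f ((y : G)⁻¹ * S.s * y) = f t :=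
    fun y hy => congrArg f (congrArg Subtype.val (Finset.mem_filter.mp hy).2)
  refine (Finset.sum_congr rfl hval).trans ?_
  rw [Finset.sum_const, nsmul_eq_mul]
  congr 2
  obtain ⟨w, hw, e⟩ := S.fusion t.2.1 t.2.2
  have hfib : ∀ y : S.N, F y = t ↔ (y : G) * w ∈ S.A := by
    intro y
    constructor
    · intro h
      have h' : (y : G)⁻¹ * S.s * y = w * S.s * w⁻¹ := (congrArg Subtype.val h).trans e
      refine S.mem_of_comm S.mem S.s_ne ?_
      calc (y : G) * w * S.s = y * (w * S.s * w⁻¹) * w := by group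
        _ = y * ((y : G)⁻¹ * S.s * y) * w := by rw [h']
        _ = _ := by group
    · intro h
      refine Subtype.ext ?_
      show (y : G)⁻¹ * S.s * y = t
      rw [e]
      calc (y : G)⁻¹ * S.s * y = w * (((y : G) * w)⁻¹ * (S.s * ((y : G) * w))) * w⁻¹ := by group
        _ = _ := by rw [S.comm S.mem h, inv_mul_cancel_left]
  rw [← Fintype.card_subtype, ← Nat.card_eq_fintype_card]
  refine Nat.card_congr ⟨fun y => ⟨(y.1 : G) * w, (hfib y.1).mp y.2⟩,
    fun a => ⟨⟨(a : G) * w⁻¹, mul_mem (S.A_le_N a.2) (inv_mem hw)⟩,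
      (hfib _).mpr (by show (a : G) * w⁻¹ * w ∈ S.A; simp)⟩, fun y => ?_, fun a => ?_⟩
  · exact Subtype.ext (Subtype.ext (mul_inv_cancel_right (y.1 : G) w))
  · exact Subtype.ext (inv_mul_cancel_right (a : G) w)

theorem tau_s (φ₀ φ : S.A →* ℂˣ) (h0 : ∀ x : S.A, (x : G) ∈ S.Om → φ₀ x = 1)
    (h : ∃ x : S.A, (x : G) ∈ S.Om ∧ φ x ≠ 1) : S.tau φ₀ φ S.s = (S.j : ℂ) + 1 := by
  classical
  obtain ⟨x₀, hx₀, hx⟩ := h
  have ha : (Nat.card S.A : ℂ) ≠ 0 := Nat.cast_ne_zero.mpr Nat.card_pos.ne'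
  let f : G → ℂ := extendByZero S.A (S.psi φ₀ φ)
  have e1 : ∑ y : S.N, S.psi φ₀ φ (S.cA y ⟨S.s, S.mem⟩) = ∑ y : S.N, f ((y : G)⁻¹ * S.s * y) :=
    Finset.sum_congr rfl fun y _ => (extendByZero_coe S.A (S.psi φ₀ φ) (S.cA y ⟨S.s, S.mem⟩)).symm
  rw [show S.s = ((⟨S.s, S.mem⟩ : S.A) : G) from rfl, S.tau_apply, e1, S.conj_fiber, ← mul_assoc,
    inv_mul_cancel₀ ha, one_mul]
  have e2 : ∑ t : {x : G // x ∈ S.Om ∧ x ≠ 1}, f t =
      ∑ t : S.Om, S.psi φ₀ φ (Subgroup.inclusion S.Om_le t) := by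
    rw [← Finset.sum_filter_add_sum_filter_not (Finset.univ : Finset S.Om) (fun t => (t : G) ≠ 1),
      Finset.sum_eq_zero (s := Finset.univ.filter fun t : S.Om => ¬ (t : G) ≠ 1) (fun t ht => by
        have ht1 : Subgroup.inclusion S.Om_le t = 1 := Subtype.ext (not_not.mp (Finset.mem_filter.mp ht).2)
        rw [ht1, S.psi_one]), add_zero,
      Finset.sum_subtype (p := fun t : S.Om => (t : G) ≠ 1) _ (fun t => by simp)]
    exact Fintype.sum_equiv ⟨fun t => ⟨⟨t.1, t.2.1⟩, t.2.2⟩, fun t => ⟨t.1.1, t.1.2, t.2⟩,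
      fun _ => rfl, fun _ => rfl⟩ _ _ fun t =>
        extendByZero_coe S.A (S.psi φ₀ φ) (Subgroup.inclusion S.Om_le ⟨t.1, t.2.1⟩)
  rw [e2]
  simp only [psi, lin, Pi.sub_apply, Finset.sum_sub_distrib]
  rw [S.sum_lin_Om φ x₀ hx₀ hx, sub_zero, Finset.sum_congr rfl (fun t _ => by
    rw [h0 (Subgroup.inclusion S.Om_le t) t.2, Units.val_one]), Finset.sum_const, Finset.card_univ,
    nsmul_eq_mul, mul_one, ← Nat.card_eq_fintype_card, S.card_Om, Nat.cast_add, Nat.cast_one]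

/-- The sum of an induced difference over the products of pairs of involutions. -/
theorem sum_tau (φ₀ φ : S.A →* ℂˣ) (h0 : ∀ x : S.A, (x : G) ∈ S.Om → φ₀ x = 1)
    (h : ∃ x : S.A, (x : G) ∈ S.Om ∧ φ x ≠ 1) :
    ∑ g : G, S.tau φ₀ φ (g * S.s * g⁻¹ * S.s) =
      (Nat.card S.A : ℂ) * ((S.j : ℂ) - 1) * ((S.j : ℂ) + 1) := by
  classical
  have hval : ∀ g : G, S.tau φ₀ φ (g * S.s * g⁻¹ * S.s) =
      if g ∈ S.N ∧ g ∉ S.A then (S.j : ℂ) + 1 else 0 := by
    intro g
    by_cases h1 : g * S.s * g⁻¹ * S.s = 1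
    · have hgA : g ∈ S.A := by
        refine S.mem_of_comm S.mem S.s_ne ?_
        have : g * S.s * g⁻¹ = S.s := by
          rw [← mul_inv_eq_one, inv_eq_of_mul_eq_one_right S.s_sq]; exact h1
        exact mul_inv_eq_iff_eq_mul.mp this
      rw [h1, S.tau_one, if_neg (fun hh => hh.2 hgA)]
    by_cases hc : ∃ c : G, c⁻¹ * (g * S.s * g⁻¹ * S.s) * c ∈ S.A
    · obtain ⟨c, hc⟩ := hc
      have hy := S.product_mem hc h1
      have ht : g * S.s * g⁻¹ ∈ S.A := ((S.A).mul_mem_cancel_right S.mem).mp hy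
      have hgN : g ∈ S.N := S.ti S.mem S.s_ne ht
      have hgA : g ∉ S.A := fun hg => h1 (by rw [S.comm hg S.mem, mul_inv_cancel_right, S.s_sq])
      rw [if_pos ⟨hgN, hgA⟩]
      have hyO : g * S.s * g⁻¹ * S.s ∈ S.Om :=
        (S.Om).mul_mem (S.conj_mem_Om hgN ⟨S.mem, S.s_sq⟩) ⟨S.mem, S.s_sq⟩
      obtain ⟨w, -, e⟩ := S.fusion hyO h1
      rw [e]
      exact (indFun_isClassFunction S.A _ S.s w).trans (S.tau_s φ₀ φ h0 h)
    · push Not at hc
      rw [tau, indFun_eq_zero_of_not_isConj _ _ hc, if_neg ?_]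
      rintro ⟨hgN, -⟩
      exact hc 1 (by simpa using mul_mem (S.conj_mem_A hgN S.mem) S.mem)
  rw [Finset.sum_congr rfl fun g _ => hval g, Finset.sum_ite, Finset.sum_const_zero, add_zero,
    Finset.sum_const, nsmul_eq_mul]
  congr 1
  have hc : (Finset.univ.filter fun g : G => g ∈ S.N ∧ g ∉ S.A) =
      (S.N : Set G).toFinset \ (S.A : Set G).toFinset := by ext; simp
  rw [hc, Finset.card_sdiff_of_subset (fun g hg => by
      simp only [Set.mem_toFinset, SetLike.mem_coe] at hg ⊢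
      exact S.A_le_N hg),
    ← Set.ncard_eq_toFinset_card', ← Set.ncard_eq_toFinset_card', ← Nat.card_coe_set_eq, ← Nat.card_coe_set_eq]
  rw [show Nat.card ↥(S.N : Set G) = Nat.card S.A * S.j from S.card_N,
    show Nat.card ↥(S.A : Set G) = Nat.card S.A from rfl,
    Nat.cast_sub (Nat.le_mul_of_pos_right _ S.j_pos), Nat.cast_mul]
  ring

open scoped IsMulCommutative in
/-- The centraliser of an involution is elementary abelian. -/
theorem sq_eq_one (hj : 2 ≤ S.j) {x : G} (hx : x ∈ S.A) : x * x = 1 := by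
  classical
  by_contra hx2
  haveI : IsMulCommutative S.A := ⟨⟨fun a b => Subtype.ext (S.comm a.2 b.2)⟩⟩
  set B : Subgroup S.A := S.Om.subgroupOf S.A with hB
  have hBc : Nat.card B = S.j + 1 := by
    rw [hB, Nat.card_congr (Subgroup.subgroupOfEquivOfLe S.Om_le).toEquiv, S.card_Om]
  set m := B.index with hm
  have ham : Nat.card S.A = (S.j + 1) * m := by rw [← B.card_mul_index, hBc]
  have hmem : ∀ z : S.A, z ∈ B ↔ (z : G) ∈ S.Om := fun z => mem_subgroupOf
  -- the characters trivial on the elementary part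
  obtain ⟨φ₀, hφ₀, hφ₀x⟩ : ∃ φ : S.A →* ℂˣ, (∀ y ∈ B, φ y = 1) ∧ φ ⟨x, hx⟩ ≠ 1 := by
    by_contra hcon
    push Not at hcon
    exact hx2 ((hmem _).mp ((CommGroup.forall_monoidHom_apply_eq_one_iff ℂ B ⟨x, hx⟩).mp hcon)).2
  have hφ₀1 : φ₀ ≠ 1 := fun e => hφ₀x (by rw [e]; rfl)
  have hker : Nat.card {φ : S.A →* ℂˣ // ∀ y ∈ B, φ y = 1} = m := by
    rw [hm, Subgroup.index_eq_card, ← CommGroup.card_domRestrictHom_ker ℂ B]
    refine Nat.card_congr (Equiv.subtypeEquivRight fun φ => ?_)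
    rw [MonoidHom.mem_ker]
    exact ⟨fun h => MonoidHom.ext fun y => h y.1 y.2, fun h y hy => DFunLike.congr_fun h ⟨y, hy⟩⟩
  haveI : Finite (S.A →* ℂˣ) := Finite.of_equiv _ (CommGroup.monoidHom_mulEquiv_of_hasEnoughRootsOfUnity S.A ℂ).some.symm.toEquiv
  haveI := Fintype.ofFinite (S.A →* ℂˣ)
  have hX : Nat.card S.Chs + m = Nat.card S.A := by
    rw [← hker, ← CommGroup.card_monoidHom_of_hasEnoughRootsOfUnity S.A ℂ,
      ← Nat.card_congr (Equiv.sumCompl fun φ : S.A →* ℂˣ => ∀ y ∈ B, φ y = 1), Nat.card_sum, add_comm]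
    congr 1
    refine Nat.card_congr (Equiv.subtypeEquivRight fun φ => ?_)
    push Not
    exact ⟨fun ⟨z, hz, h⟩ => ⟨z, (hmem z).mpr hz, h⟩, fun ⟨z, hz, h⟩ => ⟨z, (hmem z).mp hz, h⟩⟩
  letI := S.actC
  haveI : Finite (MulAction.orbitRel.Quotient S.N S.Chs) := Quotient.finite _
  set Orb := MulAction.orbitRel.Quotient S.N S.Chs with hOrb
  have hn : Nat.card Orb = m := by
    have h := card_eq_orbits_mul (K := S.N) (X := S.Chs) (n := S.j) S.index_stab_C
    rw [h, ham, add_mul, one_mul] at hX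
    have h' : Nat.card Orb * S.j = m * S.j := by rw [mul_comm m]; exact add_right_cancel hX
    exact Nat.eq_of_mul_eq_mul_right S.j_pos h'
  haveI := Fintype.ofFinite Orb
  -- the family
  let eo : Fin (Fintype.card (Option Orb)) ≃ Option Orb := (Fintype.equivFin _).symm
  let rep : Orb → S.A →* ℂˣ := fun q => (Quotient.out q).1
  let fam : Option Orb → (G → ℂ) := fun o => o.elim 0 fun q => S.tau φ₀ (rep q)
  have hrep1 : ∀ q y, rep q ≠ φ₀.comp (S.cA y) := by
    intro q y e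
    obtain ⟨z, hz, h⟩ := (Quotient.out q).2
    apply h
    show rep q z = 1
    rw [e]
    exact hφ₀ _ ((hmem _).mpr (by simpa [cA_val] using S.conj_mem_Om (inv_mem y.2) hz))
  have hrep0 : ∀ q y, φ₀ ≠ (rep q).comp (S.cA y) := by
    intro q y e
    obtain ⟨z, hz, h⟩ := (y • Quotient.out q : S.Chs).2
    exact h ((DFunLike.congr_fun e z).symm.trans (hφ₀ z ((hmem z).mpr hz)))
  have hrepq : ∀ q q', rep q ≠ rep q' → ∀ y, rep q ≠ (rep q').comp (S.cA y) := by
    intro q q' hne y e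
    apply hne
    have h1 : (Quotient.out q : S.Chs) = y • Quotient.out q' := Subtype.ext e
    have h2 : q = q' := by
      rw [← Quotient.out_eq q, ← Quotient.out_eq q']
      exact Quotient.sound (MulAction.orbitRel_apply.mpr ⟨y, h1.symm⟩)
    rw [h2]
  have hrep_inj : Function.Injective rep := fun q q' e => by
    rw [← Quotient.out_eq q, ← Quotient.out_eq q', show Quotient.out q = Quotient.out q' from Subtype.ext e]
  obtain ⟨ε, hε, μ, hμ, hμinj, hτ⟩ := exists_coherent_family (eo.symm none) (fun i => fam (eo i))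
    (by simp [fam])
    (fun i => by
      rcases eo i with _ | q
      · exact isGenChar_zero
      · exact S.tau_gen _ _)
    (fun i => by
      rcases eo i with _ | q
      · rfl
      · exact S.tau_one _ _)
    (fun i k hi hk => by
      have hi' : eo i ≠ none := fun e => hi (eo.injective (by simp [e]))
      have hk' : eo k ≠ none := fun e => hk (eo.injective (by simp [e]))
      obtain ⟨q, hq⟩ := Option.ne_none_iff_exists'.mp hi'
      obtain ⟨q', hq'⟩ := Option.ne_none_iff_exists'.mp hk'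
      rw [hq, hq']
      show classInner (S.tau φ₀ (rep q)) (S.tau φ₀ (rep q')) = _
      rw [S.gram φ₀ (rep q) (rep q') hφ₀1 (S.chs_ne _) (hrep1 q) (hrep0 q') (hrepq q q')]
      refine if_congr ⟨fun e => ?_, fun e => ?_⟩ rfl rfl
      · exact eo.injective (by rw [hq, hq', hrep_inj e])
      · subst e; rw [hq] at hq'; rw [Option.some.inj hq'])
  have hε2 : ε * ε = 1 := by rcases hε with rfl | rfl <;> norm_num
  set i₀ := eo.symm none with hi₀
  obtain ⟨f, hfpos, hf⟩ := irr_degree_pos (hμ i₀)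
  have hdeg : ∀ i, μ i 1 = (f : ℂ) := by
    intro i
    have h := congrFun (hτ i) 1
    have h' : fam (eo i) 1 = 0 := by
      rcases eo i with _ | q
      · rfl
      · exact S.tau_one _ _
    simp only [h', Pi.smul_apply, Pi.sub_apply, smul_eq_mul] at h
    rw [← hf]
    have hε0 : ε ≠ 0 := fun e => by simp [e] at hε2
    exact sub_eq_zero.mp ((mul_eq_zero.mp h.symm).resolve_left hε0)
  -- the structure constant bound
  have hbound : Nat.card G ≤ Nat.card S.A * (S.j - 1) * f := by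
    obtain ⟨q⟩ : Nonempty Orb := by
      rw [← not_isEmpty_iff]
      intro he
      rw [Nat.card_of_isEmpty] at hn
      rw [← hn, mul_zero] at ham
      exact Nat.card_pos.ne' ham
    set i₁ := eo.symm (some q) with hi₁
    have hτ1 : S.tau φ₀ (rep q) = ε • (μ i₁ - μ i₀) := by
      rw [← hτ i₁]
      show _ = fam (eo (eo.symm (some q)))
      rw [Equiv.apply_symm_apply]
      rfl
    have hs : (S.j : ℂ) + 1 = ε * (μ i₁ S.s - μ i₀ S.s) := by
      rw [← S.tau_s φ₀ (rep q) (fun z hz => hφ₀ z ((hmem z).mpr hz)) (Quotient.out q).2, hτ1]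
      rfl
    have hsum := S.sum_tau φ₀ (rep q) (fun z hz => hφ₀ z ((hmem z).mpr hz)) (Quotient.out q).2
    rw [hτ1] at hsum
    simp only [Pi.smul_apply, Pi.sub_apply, smul_eq_mul, ← Finset.mul_sum, Finset.sum_sub_distrib,
      sum_conj_mul_char (hμ i₁), sum_conj_mul_char (hμ i₀), hdeg] at hsum
    have hf0 : (f : ℂ) ≠ 0 := Nat.cast_ne_zero.mpr hfpos.ne'
    have hg0 : (Nat.card G : ℂ) ≠ 0 := Nat.cast_ne_zero.mpr Nat.card_pos.ne'
    set k : ℂ := μ i₁ S.s + μ i₀ S.s with hk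
    have h3 : ((S.j : ℂ) + 1) * ((Nat.card G : ℂ) * k) =
        ((S.j : ℂ) + 1) * (((Nat.card S.A * (S.j - 1) * f : ℕ) : ℂ)) := by
      field_simp at hsum
      rw [Nat.cast_mul, Nat.cast_mul, Nat.cast_sub S.j_pos, Nat.cast_one, hs, hk]
      linear_combination hsum + ((Nat.card S.A : ℂ) * ((S.j : ℂ) - 1) * (f : ℂ)) * hs
    have hj1 : (S.j : ℂ) + 1 ≠ 0 := by exact_mod_cast Nat.succ_ne_zero S.j
    have h4 := mul_left_cancel₀ hj1 h3
    have hkq : k = (((Nat.card S.A * (S.j - 1) * f : ℕ) / (Nat.card G : ℕ) : ℚ) : ℂ) := by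
      rw [Rat.cast_div, Rat.cast_natCast, Rat.cast_natCast, eq_div_iff hg0, mul_comm]
      exact h4
    obtain ⟨z, hz⟩ := exists_int_of_isIntegral_ratCast (q := ((Nat.card S.A * (S.j - 1) * f : ℕ) : ℚ) / (Nat.card G : ℕ)) (by
      rw [← hkq]
      exact (isIntegral_of_char (isCharacter_of_irr (hμ i₁)) _).add (isIntegral_of_char (isCharacter_of_irr (hμ i₀)) _))
    have hgq : (0 : ℚ) < (Nat.card G : ℕ) := by exact_mod_cast Nat.card_pos
    have hpos : (0 : ℚ) < ((Nat.card S.A * (S.j - 1) * f : ℕ) : ℚ) / (Nat.card G : ℕ) := by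
      refine div_pos ?_ hgq
      have : 0 < Nat.card S.A * (S.j - 1) * f := Nat.mul_pos (Nat.mul_pos Nat.card_pos (by omega)) hfpos
      exact_mod_cast this
    rw [hz] at hpos
    have hz1 : (1 : ℚ) ≤ (z : ℚ) := by exact_mod_cast (show (0 : ℤ) < z by exact_mod_cast hpos)
    rw [← hz, le_div_iff₀ hgq, one_mul] at hz1
    exact_mod_cast hz1
  -- the degree bound
  have hsq : m * f ^ 2 ≤ Nat.card G := by
    have h := sum_irr_degree_sq (G := G)
    choose d hd hd' using fun χ : IrrCharacter G => irr_degree_pos χ.2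
    simp only [hd'] at h
    have h' : ∑ χ : IrrCharacter G, d χ ^ 2 = Nat.card G := by exact_mod_cast h
    rw [← h']
    let E : Orb → IrrCharacter G := fun q => ⟨μ (eo.symm (some q)), hμ _⟩
    have hEinj : Function.Injective E := fun q q' e =>
      Option.some.inj (eo.symm.injective (hμinj (congrArg Subtype.val e)))
    calc m * f ^ 2 = ∑ χ ∈ Finset.univ.image E, d χ ^ 2 := by
          rw [Finset.sum_image fun a _ b _ e => hEinj e, Finset.sum_congr rfl (fun q _ => show d (E q) ^ 2 = f ^ 2 by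
            rw [show d (E q) = f from Nat.cast_injective (R := ℂ) ((hd' (E q)).symm.trans (hdeg _))]),
            Finset.sum_const, Finset.card_univ, ← Nat.card_eq_fintype_card, hn, smul_eq_mul]
      _ ≤ _ := Finset.sum_le_sum_of_subset (Finset.subset_univ _)
  -- arithmetic
  have hmj : S.j + 1 ≤ m := by
    have hm2 : m ≠ 1 := fun h1 => by
      have : B = ⊤ := Subgroup.index_eq_one.mp h1
      exact hx2 ((hmem ⟨x, hx⟩).mp (this ▸ Subgroup.mem_top _)).2
    have hm0 : 0 < m := Nat.pos_of_ne_zero Subgroup.index_ne_zero_of_finite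
    have hd : S.j ∣ m - 1 := by
      have h1 := S.j_dvd
      rw [ham, show (S.j + 1) * m - 1 = S.j * m + (m - 1) by rw [add_mul, one_mul]; omega] at h1
      exact (Nat.dvd_add_right (Dvd.intro m rfl)).mp h1
    have := Nat.le_of_dvd (by omega) hd
    omega
  have hG := S.card_G
  have hidx := S.index_N
  set a := Nat.card S.A with ha
  set n := S.N.index with hn'
  have h5 : m * Nat.card G ≤ (a * (S.j - 1)) ^ 2 := by
    refine Nat.le_of_mul_le_mul_right ?_ (Nat.card_pos (α := G))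
    calc m * Nat.card G * Nat.card G ≤ m * (a * (S.j - 1) * f) * (a * (S.j - 1) * f) :=
          Nat.mul_le_mul (Nat.mul_le_mul_left m hbound) hbound
      _ = (a * (S.j - 1)) ^ 2 * (m * f ^ 2) := by ring
      _ ≤ _ := Nat.mul_le_mul_left _ hsq
  obtain ⟨i, hi⟩ : ∃ i, S.j = i + 2 := ⟨S.j - 2, by omega⟩
  rw [hG, hi] at h5
  rw [hi] at hmj ham
  have ha0 : 0 < a := Nat.card_pos
  have h6 : (i + 2) * n ≤ (i + 3) * (i + 1) ^ 2 := by
    refine Nat.le_of_mul_le_mul_left ?_ (Nat.mul_pos ha0 (show 0 < m by omega))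
    calc a * m * ((i + 2) * n) = m * (a * (i + 2) * n) := by ring
      _ ≤ (a * (i + 2 - 1)) ^ 2 := h5
      _ = a * a * (i + 1) ^ 2 := by rw [show i + 2 - 1 = i + 1 by omega]; ring
      _ = _ := by rw [ham]; ring
  have h7 : (i + 3) * (i + 3) + 1 ≤ n := by
    have : (i + 3) * (i + 3) ≤ a := by rw [ham]; exact Nat.mul_le_mul_left _ hmj
    omega
  have h8 := Nat.mul_le_mul_left (i + 2) h7
  nlinarith

end Setup

end CfsgLib.CAEven
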