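/-
Finite simple groups in which commuting is transitive on non-identity elements are the groups
PSL(2, 2^f); and conversely those groups have this property.
-/
import Cfsg.Agent.Lib.CAEven.Chars
import Cfsg.Agent.Lib.TwoFusion.CATriple
import Cfsg.Agent.Lib.Solvable.CNTheorem
import Cfsg.Agent.Lib.PrimeGraphExt
import Cfsg.Agent.Lib.Involutions
import Cfsg.Agent.Lib.Elementary
import Cfsg.Agent.S0727
import Cfsg.Agent.S0265

set_option autoImplicit false
set_option linter.unusedSectionVars false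
set_option linter.style.haveILetI false
set_option maxHeartbeats 600000

namespace CfsgLib.CAEven

open Subgroup Cfsg

universe u
variable {G : Type u} [Group G] [Finite G]

/-- Commuting is transitive on non-identity elements. -/
def IsCT (G : Type u) [Group G] : Prop :=
  ∀ a b c : G, a ≠ 1 → b ≠ 1 → c ≠ 1 → Commute a b → Commute b c → Commute a c

theorem comm_in_centralizer (hCT : IsCT G) {z a b : G} (hz : z ≠ 1) (ha : a * z = z * a) (hb : b * z = z * b) :
    a * b = b * a := by
  by_cases h1 : a = 1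
  · simp [h1]
  by_cases h2 : b = 1
  · simp [h2]
  exact (hCT a z b h1 hz h2 ha hb.symm).eq

theorem centralizer_eq_of_mem (hCT : IsCT G) {z x : G} (hz : z ≠ 1) (hx : x ∈ centralizer ({z} : Set G))
    (hx1 : x ≠ 1) : centralizer ({x} : Set G) = centralizer ({z} : Set G) := by
  have hxz := mem_centralizer_singleton_iff.mp hx
  refine le_antisymm (fun y hy => mem_centralizer_singleton_iff.mpr ?_)
    (fun y hy => mem_centralizer_singleton_iff.mpr ?_)
  · exact comm_in_centralizer hCT hx1 (mem_centralizer_singleton_iff.mp hy) hxz.symm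
  · exact comm_in_centralizer hCT hz (mem_centralizer_singleton_iff.mp hy) hxz

section NonSolvable

/-- Commuting is transitive, the group is not solvable and has no abelian normal subgroup but the trivial one. -/
structure Radicalfree (G : Type u) [Group G] : Prop where
  ns : ¬ Group.IsSolvable G
  ab : ∀ A : Subgroup G, A.Normal → (∀ a ∈ A, ∀ b ∈ A, a * b = b * a) → A = ⊥

theorem isSolvable_of_odd_ct (hCT : IsCT G) (K : Subgroup G) (hodd : Odd (Nat.card K)) : Group.IsSolvable K := by
  refine CfsgLib.CN.isSolvable_of_odd_cn (Nat.card K) hodd (fun z hz => ?_) rfl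
  have hz' : (z : G) ≠ 1 := fun e => hz (Subtype.ext e)
  haveI : IsMulCommutative (centralizer ({z} : Set K)) := ⟨⟨fun a b => Subtype.ext (Subtype.ext
    (comm_in_centralizer hCT hz' (congrArg Subtype.val (mem_centralizer_singleton_iff.mp a.2))
      (congrArg Subtype.val (mem_centralizer_singleton_iff.mp b.2))))⟩⟩
  letI : CommGroup (centralizer ({z} : Set K)) :=
    { (inferInstance : Group (centralizer ({z} : Set K))) with mul_comm := fun a b => mul_comm' a b }
  infer_instance

theorem Radicalfree.solvable (hR : Radicalfree G) {K : Subgroup G} [K.Normal] (hK : Group.IsSolvable K) :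
    K = ⊥ := by
  by_contra hne
  obtain ⟨M, hM, hMK, hM0, hmin⟩ := CfsgLib.exists_minimal_normal hne
  haveI := hM
  have hMs : Group.IsSolvable M :=
    Group.isSolvable_of_isSolvable_injective (f := inclusion hMK) (inclusion_injective hMK)
  exact hM0 (hR.ab M hM fun a ha b hb =>
    congrArg Subtype.val ((CfsgLib.minimal_normal_elementary hM0 hMs hmin).1.is_comm.comm ⟨a, ha⟩ ⟨b, hb⟩))

theorem even_card' (hCT : IsCT G) (hR : Radicalfree G) : Even (Nat.card G) := by
  rw [← Nat.not_odd_iff_even]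
  intro hodd
  haveI := isSolvable_of_odd_ct hCT (⊤ : Subgroup G) (by rwa [card_top])
  exact hR.ns (Group.isSolvable_of_surjective (f := (⊤ : Subgroup G).subtype) fun g => ⟨⟨g, mem_top g⟩, rfl⟩)

/-- The setup at an involution of a non-abelian simple group with transitive commuting. -/
theorem exists_setup' (hCT : IsCT G) (hR : Radicalfree G) {s : G} (hs : orderOf s = 2) :
    ∃ S : Setup G, S.s = s := by
  have hs1 : s ≠ 1 := fun e => by rw [e, orderOf_one] at hs; omega
  have hs2 := Involutions.mul_self_eq_one_of_orderOf hs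
  set A := centralizer ({s} : Set G) with hA
  have hsA : s ∈ A := mem_centralizer_singleton_iff.mpr rfl
  have hcomm : ∀ a ∈ A, ∀ b ∈ A, a * b = b * a := fun a ha b hb =>
    comm_in_centralizer hCT hs1 (mem_centralizer_singleton_iff.mp ha) (mem_centralizer_singleton_iff.mp hb)
  have hne : A ≠ ⊥ := fun e => hs1 ((Subgroup.mem_bot).mp (e ▸ hsA))
  have hout : ∀ t u : G, orderOf t = 2 → t ∈ A → orderOf u = 2 → u ∉ A → ∃ g : G, u = g * t * g⁻¹ := by
    intro t u ht htA hu huA
    have ht2 := Involutions.mul_self_eq_one_of_orderOf ht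
    have hu2 := Involutions.mul_self_eq_one_of_orderOf hu
    have hodd : Odd (orderOf (t * u)) := by
      rw [← Nat.not_even_iff_odd]
      intro hev
      obtain ⟨h1, h2⟩ := Involutions.central_half ht2 hu2 hev
      have h3 := Involutions.orderOf_half (x := t) (y := u) hev
      have hw : (t * u) ^ (orderOf (t * u) / 2) ≠ 1 := fun e => by rw [e, orderOf_one] at h3; omega
      have h4 : t * u = u * t := comm_in_centralizer hCT hw h1.eq.symm h2.eq.symm
      have ht1 : t ≠ 1 := fun e => by rw [e, orderOf_one] at ht; omega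
      apply huA
      rw [hA, ← centralizer_eq_of_mem hCT hs1 htA ht1]
      exact mem_centralizer_singleton_iff.mpr h4.symm
    obtain ⟨d, -, e⟩ := Involutions.exists_conj_eq_of_odd ht2 hu2 hodd
    exact ⟨d, e.symm⟩
  obtain ⟨u, hu, huA⟩ : ∃ u : G, orderOf u = 2 ∧ u ∉ A := by
    by_contra hcon
    push Not at hcon
    refine (?_ : Subgroup.normalClosure ({s} : Set G) ≠ ⊥) (hR.ab _ inferInstance ?_)
    swap
    · have hle : Subgroup.normalClosure ({s} : Set G) ≤ A := by
        rw [Subgroup.normalClosure, Subgroup.closure_le]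
        intro x hx
        obtain ⟨y, hy, hyx⟩ := Group.mem_conjugatesOfSet_iff.mp hx
        rw [Set.mem_singleton_iff.mp hy] at hyx
        obtain ⟨c, rfl⟩ := isConj_iff.mp hyx
        exact hcon _ (by rw [Involutions.orderOf_conj, hs])
      exact fun a ha b hb => hcomm a (hle ha) b (hle hb)
    · intro e
      exact hs1 ((Subgroup.mem_bot).mp (e ▸ Subgroup.subset_normalClosure (Set.mem_singleton s)))
  refine ⟨⟨A, s, hs, hsA, fun x hx hx1 => centralizer_eq_of_mem hCT hs1 hx hx1, fun t ht => ?_, ?_⟩, rfl⟩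
  · by_cases htA : t ∈ A
    · obtain ⟨g, hg⟩ := hout s u hs hsA hu huA
      obtain ⟨g', hg'⟩ := hout t u ht htA hu huA
      refine ⟨g'⁻¹ * g, ?_⟩
      calc t = g'⁻¹ * (g' * t * g'⁻¹) * g' := by group
        _ = g'⁻¹ * (g * s * g⁻¹) * g' := by rw [← hg', hg]
        _ = _ := by group
    · exact hout s t hs hsA ht htA
  · intro h
    exact hne (hR.ab _ (normalizer_eq_top_iff.mp h) hcomm)

/-- A Sylow 2-subgroup for which the involution centralisers are elementary abelian. -/
theorem exists_hyp' (hCT : IsCT G) (hR : Radicalfree G) : ∃ T : Sylow 2 G, CAGroup.Hyp T := by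
  haveI : Fact (Nat.Prime 2) := ⟨Nat.prime_two⟩
  obtain ⟨T⟩ : Nonempty (Sylow 2 G) := inferInstance
  obtain ⟨n, hn⟩ := IsPGroup.iff_card.mp T.2
  have h2T : 2 ∣ Nat.card ↥(T : Subgroup G) := by
    have := T.card_eq_multiplicity
    rw [this]
    refine dvd_pow_self 2 ?_
    exact (Nat.Prime.factorization_pos_of_dvd Nat.prime_two Nat.card_pos.ne' (even_card' hCT hR).two_dvd).ne'
  haveI : Nontrivial ↥(T : Subgroup G) := Finite.one_lt_card_iff_nontrivial.mp (by
    have := Nat.le_of_dvd Nat.card_pos h2T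
    omega)
  obtain ⟨w, hw⟩ := exists_prime_orderOf_dvd_card' (G := ↥(Subgroup.center ↥(T : Subgroup G))) 2 (by
    haveI : Nontrivial ↥(Subgroup.center ↥(T : Subgroup G)) := T.2.center_nontrivial
    obtain ⟨k, hk⟩ := IsPGroup.iff_card.mp (T.2.to_subgroup (Subgroup.center ↥(T : Subgroup G)))
    rw [hk]
    refine dvd_pow_self 2 fun h0 => ?_
    rw [h0, pow_zero] at hk
    exact absurd hk Finite.one_lt_card.ne')
  set z : G := ((w : ↥(T : Subgroup G)) : G) with hz
  have hzo : orderOf z = 2 := by rw [hz, Subgroup.orderOf_coe, Subgroup.orderOf_coe, hw]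
  obtain ⟨S, hS⟩ := exists_setup' hCT hR hzo
  letI := Fintype.ofFinite G
  have hTA : (T : Subgroup G) ≤ S.A := by
    intro x hx
    refine S.mem_of_comm S.mem S.s_ne ?_
    rw [hS, hz]
    exact congrArg Subtype.val (Subgroup.mem_center_iff.mp w.2 ⟨x, hx⟩)
  have hTn : ¬ (T : Subgroup G).Normal := fun h =>
    (fun e => by rw [e, Subgroup.card_bot] at h2T; omega : (T : Subgroup G) ≠ ⊥)
      (hR.ab _ h fun a ha b hb => S.comm (hTA ha) (hTA hb))
  have hj : 2 ≤ S.j := by
    by_contra hlt
    have hj1 : S.j = 1 := by have := S.j_pos; omega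
    have hNA : S.N ≤ S.A := by
      have := Subgroup.index_eq_one.mp (show (S.A.subgroupOf S.N).index = 1 by rw [S.index_A, hj1])
      exact Subgroup.subgroupOf_eq_top.mp this
    have hcz : normalizer ((T : Subgroup G) : Set G) ≤ centralizer ((T : Subgroup G) : Set G) := by
      intro y hy
      have hzT : z ∈ (T : Subgroup G) := (w : ↥(T : Subgroup G)).2
      have hyA : y ∈ S.A := hNA (S.ti S.mem S.s_ne (g := y) (by
        rw [hS]; exact hTA ((Subgroup.mem_normalizer_iff.mp hy z).mp hzT)))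
      exact Subgroup.mem_centralizer_iff.mpr fun x hx => S.comm (hTA hx) hyA
    have hK := MonoidHom.ker_transferSylow_isComplement' T hcz
    haveI := MonoidHom.normal_ker (MonoidHom.transferSylow T hcz)
    have hodd : Odd (Nat.card ↥(MonoidHom.transferSylow T hcz).ker) := by
      rw [← hK.index_eq_card, ← Nat.not_even_iff_odd, even_iff_two_dvd]
      exact T.not_dvd_index
    have h := hR.solvable (isSolvable_of_odd_ct hCT _ hodd)
    refine (fun e => by rw [e, Subgroup.card_bot] at h2T; omega : (T : Subgroup G) ≠ ⊥)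
      (hR.ab _ ?_ fun a ha b hb => S.comm (hTA ha) (hTA hb))
    rw [h, Subgroup.isComplement'_bot_left] at hK
    rw [hK]
    infer_instance
  have hexp : ∀ x ∈ S.A, x * x = 1 := fun x hx => S.sq_eq_one hj hx
  have hAT : S.A = (T : Subgroup G) := T.3 (fun x => ⟨1, Subtype.ext (by
    push_cast
    rw [pow_two]
    exact hexp x x.2)⟩) hTA
  refine ⟨T, ⟨fun hc => ?_, hTn, fun t ht => ?_⟩⟩
  · obtain ⟨g, hg⟩ := hc.exists_ofOrder_eq_natCard
    have h1 : orderOf g ∣ 2 := orderOf_dvd_of_pow_eq_one (Subtype.ext (by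
      push_cast
      rw [pow_two]
      exact hexp g (hTA g.2)))
    rw [hg] at h1
    have hcardA : S.j + 1 ≤ Nat.card ↥(T : Subgroup G) := by
      rw [← hAT, ← S.card_Om]
      exact Nat.le_of_dvd Nat.card_pos (Subgroup.card_dvd_of_le S.Om_le)
    have := Nat.le_of_dvd (by norm_num) h1
    omega
  · obtain ⟨g, hg⟩ := S.conj t ht
    have ht1 : t ≠ 1 := fun e => by rw [e, orderOf_one] at ht; omega
    refine ⟨⟨⟨fun a b => Subtype.ext (comm_in_centralizer hCT ht1
      (mem_centralizer_singleton_iff.mp a.2) (mem_centralizer_singleton_iff.mp b.2))⟩⟩, fun c hc => ?_⟩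
    have h1 : g⁻¹ * c * g ∈ S.A := S.mem_of_comm S.mem S.s_ne (by
      have h2 := mem_centralizer_singleton_iff.mp hc
      rw [hg] at h2
      calc g⁻¹ * c * g * S.s = g⁻¹ * (c * (g * S.s * g⁻¹)) * g := by group
        _ = g⁻¹ * (g * S.s * g⁻¹ * c) * g := by rw [h2]
        _ = _ := by group)
    have h3 := hexp _ h1
    rw [pow_two]
    calc c * c = g * (g⁻¹ * c * g * (g⁻¹ * c * g)) * g⁻¹ := by group
      _ = 1 := by rw [h3]; group

theorem exists_psl' (hCT : IsCT G) (hR : Radicalfree G) :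
    ∃ (F : Type) (_ : Field F) (_ : Fintype F) (f : ℕ), 2 ≤ f ∧ Fintype.card F = 2 ^ f ∧
      Nonempty (G ≃* Matrix.ProjectiveSpecialLinearGroup (Fin 2) F) := by
  classical
  obtain ⟨T, hT⟩ := exists_hyp' hCT hR
  haveI : Fact (Nat.Prime 2) := ⟨Nat.prime_two⟩
  obtain ⟨f, hf⟩ := IsPGroup.iff_card.mp T.2
  have hf2 : 2 ≤ f := by
    have h4 := CAGroup.card_T hT
    rw [hf] at h4
    exact (Nat.pow_le_pow_iff_right (by norm_num : 1 < 2)).mp (by simpa using h4)
  set H := normalizer ((T : Subgroup G) : Set G)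
  letI := Fintype.ofFinite (G ⧸ H)
  have hcard : Fintype.card (G ⧸ H) = 2 ^ f + 1 := by
    rw [← Nat.card_eq_fintype_card, CAGroup.card_coset hT, hf]
  have hbig : 3 ≤ Fintype.card (G ⧸ H) := by
    have : 4 ≤ 2 ^ f := le_trans (by norm_num) (Nat.pow_le_pow_right (by norm_num) hf2)
    omega
  let φ := MulAction.toPermHom G (G ⧸ H)
  have hinj : Function.Injective φ := by
    rw [injective_iff_map_eq_one]
    intro g hg
    obtain ⟨e⟩ : Nonempty (Fin 3 ↪ G ⧸ H) := Function.Embedding.nonempty_of_card_le (by simpa using hbig)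
    have hfix : ∀ x : G ⧸ H, g • x = x := fun x => DFunLike.congr_fun hg x
    exact CAGroup.three_fixed hT (e.injective.ne (by decide : (0 : Fin 3) ≠ 1))
      (e.injective.ne (by decide : (0 : Fin 3) ≠ 2)) (e.injective.ne (by decide : (1 : Fin 3) ≠ 2))
      (hfix _) (hfix _) (hfix _)
  have h3 : MulAction.IsMultiplyPretransitive φ.range (G ⧸ H) 3 := by
    refine ⟨fun x y => ?_⟩
    obtain ⟨g, g0, g1, g2⟩ := CAGroup.triply_transitive hT
      (x.injective.ne (by decide : (0 : Fin 3) ≠ 1)) (x.injective.ne (by decide : (0 : Fin 3) ≠ 2))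
      (x.injective.ne (by decide : (1 : Fin 3) ≠ 2)) (y.injective.ne (by decide : (0 : Fin 3) ≠ 1))
      (y.injective.ne (by decide : (0 : Fin 3) ≠ 2)) (y.injective.ne (by decide : (1 : Fin 3) ≠ 2))
    refine ⟨⟨φ g, g, rfl⟩, Function.Embedding.ext fun i => ?_⟩
    show g • x i = y i
    fin_cases i
    · exact g0
    · exact g1
    · exact g2
  have hsharp : ∀ x : Fin 3 ↪ G ⧸ H, MulAction.stabilizer φ.range x = ⊥ := by
    intro x
    rw [Subgroup.eq_bot_iff_forall]
    rintro ⟨_, g, rfl⟩ hg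
    rw [MulAction.mem_stabilizer_iff] at hg
    have hfix : ∀ i, g • x i = x i := fun i => DFunLike.congr_fun hg i
    have h1 := CAGroup.three_fixed hT (x.injective.ne (by decide : (0 : Fin 3) ≠ 1))
      (x.injective.ne (by decide : (0 : Fin 3) ≠ 2)) (x.injective.ne (by decide : (1 : Fin 3) ≠ 2))
      (hfix 0) (hfix 1) (hfix 2)
    exact Subtype.ext (by show φ g = 1; rw [h1, map_one])
  obtain ⟨F, iF, iFt, hF, ⟨e⟩⟩ := Cfsg.Agent.S0727.result (by omega : 1 ≤ f) hcard φ.range h3 hsharp
  refine ⟨F, iF, iFt, f, hf2, hF, ?_⟩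
  haveI : CharP F 2 := by
    obtain ⟨p, hp⟩ := CharP.exists F
    haveI := hp
    obtain ⟨k, hpp, hk⟩ := FiniteField.card F p
    rw [hF] at hk
    have h2 : (2 : ℕ) ∣ p ^ (k : ℕ) := hk ▸ dvd_pow_self 2 (by omega)
    rw [(Nat.prime_dvd_prime_iff_eq Nat.prime_two hpp).mp (Nat.prime_two.dvd_of_dvd_pow h2)]
    exact hp
  haveI : Finite (Matrix.ProjGenLinGroup (Fin 2) F) := Finite.of_surjective _ Matrix.ProjGenLinGroup.mk_surjective
  have hbij : Function.Bijective (Matrix.SpecialLinearGroup.toPGL (n := Fin 2) (R := F)) := by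
    rw [Nat.bijective_iff_injective_and_card]
    refine ⟨(MonoidHom.ker_eq_bot_iff _).mp ?_, (Cfsg.Agent.S0265.result 2).symm⟩
    rw [Matrix.SpecialLinearGroup.toPGL_ker, CfsgLib.PrimeGraphExt.center_eq_bot]
  exact ⟨(MonoidHom.ofInjective hinj).trans (e.trans
    ((MulEquiv.ofBijective _ hbij).symm.trans CfsgLib.PrimeGraphExt.pslEquiv.symm))⟩

end NonSolvable

section Simple

variable [IsSimpleGroup G]

theorem radicalfree (hG : ¬ IsMulCommutative G) : Radicalfree G where
  ns h := hG ⟨⟨IsSimpleGroup.comm_iff_isSolvable.mpr h⟩⟩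
  ab A hA h := hA.eq_bot_or_eq_top.resolve_right fun e =>
    hG ⟨⟨fun a b => h a (e ▸ mem_top a) b (e ▸ mem_top b)⟩⟩

/-- A Sylow 2-subgroup for which the involution centralisers are elementary abelian, in a simple group. -/
theorem exists_hyp (hCT : IsCT G) (hG : ¬ IsMulCommutative G) : ∃ T : Sylow 2 G, CAGroup.Hyp T :=
  exists_hyp' hCT (radicalfree hG)

theorem exists_psl (hCT : IsCT G) (hG : ¬ IsMulCommutative G) :
    ∃ (F : Type) (_ : Field F) (_ : Fintype F) (f : ℕ), 2 ≤ f ∧ Fintype.card F = 2 ^ f ∧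
      Nonempty (G ≃* Matrix.ProjectiveSpecialLinearGroup (Fin 2) F) :=
  exists_psl' hCT (radicalfree hG)

end Simple

/-- Two commutants of a non-scalar 2×2 matrix commute. -/
theorem commute_of_commute_two {F : Type*} [Field F] {g x y : Matrix (Fin 2) (Fin 2) F}
    (hg : ¬ (g 0 1 = 0 ∧ g 1 0 = 0 ∧ g 0 0 = g 1 1)) (hx : x * g = g * x) (hy : y * g = g * y) :
    x * y = y * x := by
  have e1 := congrFun (congrFun hx 0) 0
  have e2 := congrFun (congrFun hx 0) 1
  have e3 := congrFun (congrFun hx 1) 0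
  have f1 := congrFun (congrFun hy 0) 0
  have f2 := congrFun (congrFun hy 0) 1
  have f3 := congrFun (congrFun hy 1) 0
  simp only [Matrix.mul_apply, Fin.sum_univ_two] at e1 e2 e3 f1 f2 f3
  have key : x 0 1 * y 1 0 = x 1 0 * y 0 1 ∧
      x 0 1 * (y 0 0 - y 1 1) = y 0 1 * (x 0 0 - x 1 1) ∧
      x 1 0 * (y 0 0 - y 1 1) = y 1 0 * (x 0 0 - x 1 1) := by
    by_cases hb : g 0 1 = 0
    · by_cases hc : g 1 0 = 0
      · have hd : g 0 0 - g 1 1 ≠ 0 := sub_ne_zero.mpr fun e => hg ⟨hb, hc, e⟩
        simp only [hb, hc, mul_zero, zero_mul, add_zero, zero_add] at e2 e3 f2 f3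
        have a1 : x 0 1 = 0 := (mul_eq_zero.mp (show x 0 1 * (g 0 0 - g 1 1) = 0 by linear_combination -e2)).resolve_right hd
        have a2 : x 1 0 = 0 := (mul_eq_zero.mp (show x 1 0 * (g 0 0 - g 1 1) = 0 by linear_combination e3)).resolve_right hd
        have a3 : y 0 1 = 0 := (mul_eq_zero.mp (show y 0 1 * (g 0 0 - g 1 1) = 0 by linear_combination -f2)).resolve_right hd
        have a4 : y 1 0 = 0 := (mul_eq_zero.mp (show y 1 0 * (g 0 0 - g 1 1) = 0 by linear_combination f3)).resolve_right hd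
        simp [a1, a2, a3, a4]
      · have a1 : x 0 1 = 0 := (mul_eq_zero.mp (show x 0 1 * g 1 0 = 0 by linear_combination e1 + x 1 0 * hb)).resolve_right hc
        have a2 : y 0 1 = 0 := (mul_eq_zero.mp (show y 0 1 * g 1 0 = 0 by linear_combination f1 + y 1 0 * hb)).resolve_right hc
        refine ⟨by simp [a1, a2], by simp [a1, a2], mul_left_cancel₀ hc ?_⟩
        linear_combination y 1 0 * e3 - x 1 0 * f3
    · have k2 : x 0 1 * (y 0 0 - y 1 1) = y 0 1 * (x 0 0 - x 1 1) :=
        mul_left_cancel₀ hb (by linear_combination x 0 1 * f2 - y 0 1 * e2)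
      refine ⟨mul_left_cancel₀ hb ?_, k2, mul_left_cancel₀ hb ?_⟩
      · linear_combination y 0 1 * e1 - x 0 1 * f1
      · linear_combination g 1 0 * k2 - (y 0 0 - y 1 1) * e1 + (x 0 0 - x 1 1) * f1
  obtain ⟨k1, k2, k3⟩ := key
  ext i j
  fin_cases i <;> fin_cases j <;> simp [Matrix.mul_apply, Fin.sum_univ_two]
  · linear_combination k1
  · linear_combination -k2
  · linear_combination k3
  · linear_combination -k1

/-- The groups SL(2, 2^f) have transitive commuting. -/
theorem isCT_psl {F : Type*} [Field F] [Fintype F] [CharP F 2] :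
    IsCT (Matrix.SpecialLinearGroup (Fin 2) F) := by
  intro a b c _ hb _ hab hbc
  apply Subtype.ext
  show (a : Matrix (Fin 2) (Fin 2) F) * c = c * a
  refine commute_of_commute_two (g := (b : Matrix (Fin 2) (Fin 2) F)) ?_
    (congrArg Subtype.val hab.eq) (congrArg Subtype.val hbc.eq.symm)
  rintro ⟨h1, h2, h3⟩
  apply hb
  have hdet := b.2
  rw [Matrix.det_fin_two, h1, h2, h3, mul_zero, sub_zero] at hdet
  have h4 : b.1 1 1 = 1 := by
    rcases mul_self_eq_one_iff.mp hdet with e | e
    · exact e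
    · rwa [CharTwo.neg_eq] at e
  apply Subtype.ext
  ext i j
  fin_cases i <;> fin_cases j <;> simp [h1, h2, h3, h4]

theorem isCT_of_equiv {H : Type*} [Group H] (e : G ≃* H) (h : ∀ a b c : H, a ≠ 1 → b ≠ 1 → c ≠ 1 →
    Commute a b → Commute b c → Commute a c) : IsCT G := by
  intro a b c ha hb hc hab hbc
  have h' := h (e a) (e b) (e c) (fun x => ha (e.map_eq_one_iff.mp x)) (fun x => hb (e.map_eq_one_iff.mp x))
    (fun x => hc (e.map_eq_one_iff.mp x)) (hab.map e) (hbc.map e)
  exact e.injective (by simp only [map_mul]; exact h'.eq)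

end CfsgLib.CAEven
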