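/-
Simple Zassenhaus groups with abelian kernel of two-power order: the kernel has exponent two.
-/
import Cfsg.Agent.Lib.CAEven.Chars
import Cfsg.Agent.Lib.Perm.Zassenhaus
import Cfsg.Agent.Lib.Involutions
import Mathlib.GroupTheory.Perm.Cycle.Type

set_option autoImplicit false
set_option linter.unusedSectionVars false
set_option maxHeartbeats 600000

namespace CfsgLib.CAEven

open MulAction

universe u v
variable {G : Type u} {Ω : Type v} [Group G] [Finite G] [MulAction G Ω] [Finite Ω]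

theorem card_omega (a : Ω) (U : Subgroup G) (hUle : U ≤ stabilizer G a)
    (hreg : ∀ c d : Ω, c ≠ a → d ≠ a → ∃! u : U, (u : G) • c = d) {b : Ω} (hb : b ≠ a) :
    Nat.card Ω = Nat.card U + 1 := by
  classical
  have hne : ∀ u : U, (u : G) • b ≠ a := fun u e => hb (MulAction.injective (u : G) (e.trans (hUle u.2).symm))
  rw [← Finite.card_option]
  refine (Nat.card_eq_of_bijective (fun o : Option U => o.elim a fun u => (u : G) • b) ⟨?_, fun c => ?_⟩).symm
  · rintro (_ | u) (_ | u') e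
    · rfl
    · exact absurd e.symm (hne u')
    · exact absurd e (hne u)
    · exact congrArg some ((hreg b _ hb (hne u)).unique rfl e.symm)
  · by_cases hc : c = a
    · exact ⟨none, hc.symm⟩
    · obtain ⟨u, hu, -⟩ := hreg b c hb hc
      exact ⟨some u, hu⟩

/-- An involution on an odd number of points with at most two fixed points has exactly one. -/
theorem one_fixed (hZ : Cfsg.IsZassenhausGroup G Ω) (hodd : Odd (Nat.card Ω)) {t : G} (ht : orderOf t = 2) :
    (∃ c : Ω, t • c = c) ∧ ∀ c d : Ω, t • c = c → t • d = d → c = d := by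
  classical
  haveI : Fact (Nat.Prime 2) := ⟨Nat.prime_two⟩
  letI := Fintype.ofFinite Ω
  rw [Nat.card_eq_fintype_card] at hodd
  set σ : Equiv.Perm Ω := MulAction.toPermHom G Ω t with hσ
  have hσ2 : σ ^ 2 ^ 1 = 1 := by
    rw [hσ, ← map_pow, pow_one, ← ht, pow_orderOf_eq_one, map_one]
  have hnd : ¬ 2 ∣ Fintype.card Ω := fun h => (Nat.not_even_iff_odd.mpr hodd) (even_iff_two_dvd.mpr h)
  refine ⟨?_, fun c d hc hd => ?_⟩
  · obtain ⟨c, hc⟩ := Equiv.Perm.exists_fixed_point_of_prime hnd hσ2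
    exact ⟨c, hc⟩
  by_contra hcd
  have h1 := Equiv.Perm.card_compl_support_modEq hσ2
  have hset : σ.supportᶜ = {c, d} := by
    ext e
    rw [Finset.mem_compl, Equiv.Perm.notMem_support, Finset.mem_insert, Finset.mem_singleton]
    refine ⟨fun he => ?_, ?_⟩
    · by_contra h
      push Not at h
      have := Zassenhaus.eq_one_of_three hZ hcd h.2.symm h.1.symm hc hd he
      rw [this, orderOf_one] at ht
      omega
    · rintro (rfl | rfl)
      · exact hc
      · exact hd
  rw [hset, Finset.card_pair hcd] at h1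
  have h2 : Fintype.card Ω % 2 = 0 := h1.symm
  have h3 := Nat.odd_iff.mp hodd
  omega

theorem kernel_sq_eq_one (hZ : Cfsg.IsZassenhausGroup G Ω) [IsSimpleGroup G] {a : Ω}
    (U : Subgroup G) (hUle : U ≤ stabilizer G a)
    (hUn : ∀ h ∈ stabilizer G a, ∀ u ∈ U, h * u * h⁻¹ ∈ U)
    (hreg : ∀ c d : Ω, c ≠ a → d ≠ a → ∃! u : U, (u : G) • c = d)
    (hU2 : IsPGroup 2 U) (hUab : ∀ u ∈ U, ∀ u' ∈ U, u * u' = u' * u) {x : G} (hx : x ∈ U) : x * x = 1 := by
  classical
  haveI : Fact (Nat.Prime 2) := ⟨Nat.prime_two⟩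
  letI := Fintype.ofFinite Ω
  letI := Fintype.ofFinite G
  have h3 := Zassenhaus.card_ge_three hZ
  obtain ⟨b, hb⟩ : ∃ b : Ω, b ≠ a := Fintype.exists_ne_of_one_lt_card (by omega) a
  have hΩ := card_omega a U hUle hreg hb
  obtain ⟨k, hk⟩ := IsPGroup.iff_card.mp hU2
  have h3' : 3 ≤ Nat.card Ω := by rw [Nat.card_eq_fintype_card]; exact h3
  have hk0 : k ≠ 0 := fun e => by rw [e, pow_zero] at hk; omega
  have hodd : Odd (Nat.card Ω) := by
    rw [hΩ, hk]
    exact (Nat.even_pow.mpr ⟨even_two, hk0⟩).add_one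
  have hsemi : ∀ u ∈ U, ∀ c : Ω, c ≠ a → u • c = c → u = 1 := fun u hu c hc e =>
    congrArg Subtype.val ((hreg c c hc hc).unique (y₁ := ⟨u, hu⟩) (y₂ := 1) e (one_smul G c))
  have hDodd : ∀ c d : Ω, c ≠ d → ∀ g : G, orderOf g = 2 → g • c = c → g • d = d → False :=
    fun c d hcd g hg hc hd => hcd ((one_fixed hZ hodd hg).2 c d hc hd)
  have hcent : ∀ y ∈ U, y ≠ 1 → Subgroup.centralizer ({y} : Set G) = U := by
    intro y hy hy1
    refine le_antisymm (fun g hg => ?_) (fun g hg => Subgroup.mem_centralizer_singleton_iff.mpr (hUab g hg y hy))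
    have hgy := Subgroup.mem_centralizer_singleton_iff.mp hg
    have hga : g • a = a := by
      by_contra h
      refine hy1 (hsemi y hy _ h ?_)
      rw [← mul_smul, ← hgy, mul_smul, show y • a = a from hUle hy]
    have hgb : g • b ≠ a := fun e => hb (MulAction.injective g (e.trans hga.symm))
    obtain ⟨u, hu, -⟩ := hreg b _ hb hgb
    set d := (u : G)⁻¹ * g with hd
    have hdb : d • b = b := by rw [hd, mul_smul, ← hu, inv_smul_smul]
    have hda : d • a = a := by rw [hd, mul_smul, hga, inv_smul_eq_iff]; exact (hUle u.2).symm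
    have hdy : d * y = y * d := by
      rw [hd, mul_assoc, hgy, ← mul_assoc, hUab _ (inv_mem u.2) y hy, mul_assoc]
    have hyb : y • b ≠ b := fun e => hy1 (hsemi y hy b hb e)
    have hyba : y • b ≠ a := fun e => hb (MulAction.injective y (e.trans (hUle hy).symm))
    have hd1 : d = 1 := Zassenhaus.eq_one_of_three hZ hb.symm hyb.symm hyba.symm hda hdb (by
      rw [← mul_smul, hdy, mul_smul, hdb])
    rw [hd, inv_mul_eq_one] at hd1
    rw [← hd1]
    exact u.2
  obtain ⟨⟨s, hsU⟩, hs⟩ := exists_prime_orderOf_dvd_card' (G := U) 2 (by rw [hk]; exact dvd_pow_self 2 hk0)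
  rw [Subgroup.orderOf_mk] at hs
  have hs1 : s ≠ 1 := fun e => by rw [e, orderOf_one] at hs; omega
  have fixU : ∀ t : G, orderOf t = 2 → t • a = a → t ∈ U := by
    intro t ht hta
    have htb : t • b ≠ a := fun e => hb (MulAction.injective t (e.trans hta.symm))
    obtain ⟨u, hu, -⟩ := hreg b _ hb htb
    set d := (u : G)⁻¹ * t with hd
    have hdb : d • b = b := by rw [hd, mul_smul, ← hu, inv_smul_smul]
    have hda : d • a = a := by rw [hd, mul_smul, hta, inv_smul_eq_iff]; exact (hUle u.2).symm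
    by_cases hd1 : d = 1
    · rw [hd, inv_mul_eq_one] at hd1
      rw [← hd1]
      exact u.2
    have hnorm : Subgroup.zpowers t ≤ Subgroup.normalizer (U : Set G) := by
      rw [Subgroup.zpowers_le]
      refine Subgroup.mem_normalizer_iff.mpr fun y => ⟨fun hy => hUn t hta y hy, fun hy => ?_⟩
      have := hUn t⁻¹ (inv_mem (show t ∈ stabilizer G a from hta)) _ hy
      simpa [mul_assoc] using this
    have h2 : IsPGroup 2 ↥(Subgroup.zpowers t ⊔ U) :=
      (IsPGroup.of_card (n := 1) (by rw [Nat.card_zpowers, ht, pow_one]) :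
        IsPGroup 2 ↥(Subgroup.zpowers t)).to_sup_of_normal_right' hU2 hnorm
    have hdmem : d ∈ Subgroup.zpowers t ⊔ U :=
      mul_mem (Subgroup.mem_sup_right (inv_mem u.2)) (Subgroup.mem_sup_left (Subgroup.mem_zpowers t))
    obtain ⟨n, hn⟩ := IsPGroup.iff_orderOf.mp h2 ⟨d, hdmem⟩
    rw [Subgroup.orderOf_mk] at hn
    have hn0 : n ≠ 0 := fun e => hd1 (orderOf_eq_one_iff.mp (by rw [hn, e, pow_zero]))
    obtain ⟨m, rfl⟩ : ∃ m, n = m + 1 := ⟨n - 1, by omega⟩
    have hg2 : orderOf (d ^ 2 ^ m) = 2 := by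
      rw [orderOf_pow, hn, Nat.gcd_eq_right (pow_dvd_pow 2 (Nat.le_succ m)), pow_succ,
        Nat.mul_div_cancel_left _ (by positivity)]
    have hst : d ^ 2 ^ m ∈ stabilizer G a ⊓ stabilizer G b :=
      pow_mem (Subgroup.mem_inf.mpr ⟨hda, hdb⟩) _
    exact (hDodd a b hb.symm _ hg2 (Subgroup.mem_inf.mp hst).1 (Subgroup.mem_inf.mp hst).2).elim
  have hcross : ∀ y t : G, y ∈ U → orderOf y = 2 → orderOf t = 2 → t • a ≠ a → ∃ g : G, t = g * y * g⁻¹ := by
    intro y t hy hyo hto hta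
    have hy2 := Involutions.mul_self_eq_one_of_orderOf hyo
    have ht2 := Involutions.mul_self_eq_one_of_orderOf hto
    have hodd' : Odd (orderOf (y * t)) := by
      rw [← Nat.not_even_iff_odd]
      intro hev
      obtain ⟨h1, h2⟩ := Involutions.central_half hy2 ht2 hev
      have hw := Involutions.orderOf_half (x := y) (y := t) hev
      set w := (y * t) ^ (orderOf (y * t) / 2)
      obtain ⟨c, hc⟩ := (one_fixed hZ hodd hto).1
      obtain ⟨e, he⟩ := (one_fixed hZ hodd hw).1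
      have hye : y • e = e := (one_fixed hZ hodd hw).2 _ _ (by rw [← mul_smul, h1.eq, mul_smul, he]) he
      have hte : t • e = e := (one_fixed hZ hodd hw).2 _ _ (by rw [← mul_smul, h2.eq, mul_smul, he]) he
      have hea : e = a := (one_fixed hZ hodd hyo).2 _ _ hye (hUle hy)
      exact hta (hea ▸ hte)
    obtain ⟨d, -, e⟩ := Involutions.exists_conj_eq_of_odd hy2 ht2 hodd'
    exact ⟨d, e.symm⟩
  obtain ⟨g₀, hg₀⟩ := MulAction.IsPretransitive.exists_smul_eq (M := G)
    (self := by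
      haveI := hZ.2.1
      exact MulAction.isPretransitive_of_is_two_pretransitive) a b
  have hinv_out : ∃ t : G, orderOf t = 2 ∧ t • a ≠ a := by
    refine ⟨g₀ * s * g₀⁻¹, by rw [Involutions.orderOf_conj, hs], fun e => ?_⟩
    have h1 : s • (g₀⁻¹ • a) = g₀⁻¹ • a := by
      rw [eq_inv_smul_iff, ← mul_smul, ← mul_smul]; exact e
    have h2 : g₀⁻¹ • a ≠ a := fun e' => hb (by
      rw [inv_smul_eq_iff] at e'
      exact hg₀.symm.trans e'.symm)
    exact hs1 (hsemi s hsU _ h2 h1)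
  obtain ⟨t₀, ht₀, ht₀a⟩ := hinv_out
  have hnn : Subgroup.normalizer (U : Set G) ≠ ⊤ := by
    intro h
    rcases (Subgroup.normalizer_eq_top_iff.mp h).eq_bot_or_eq_top with h' | h'
    · rw [h', Subgroup.mem_bot] at hsU; exact hs1 hsU
    · exact hb (hg₀.symm.trans (hUle (h' ▸ Subgroup.mem_top g₀)))
  let S : Setup G := ⟨U, s, hs, hsU, hcent, fun t ht => by
    by_cases hta : t • a = a
    · obtain ⟨g, hg⟩ := hcross s t₀ hsU hs ht₀ ht₀a
      obtain ⟨g', hg'⟩ := hcross t t₀ (fixU t ht hta) ht ht₀ ht₀a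
      refine ⟨g'⁻¹ * g, ?_⟩
      calc t = g'⁻¹ * (g' * t * g'⁻¹) * g' := by group
        _ = g'⁻¹ * (g * s * g⁻¹) * g' := by rw [← hg', hg]
        _ = _ := by group
    · exact hcross s t hsU hs ht hta, hnn⟩
  refine S.sq_eq_one ?_ hx
  by_contra hlt
  have hj1 : S.j = 1 := by have := S.j_pos; omega
  obtain ⟨d, hd, hd1⟩ := (Subgroup.ne_bot_iff_exists_ne_one).mp (Zassenhaus.two_point_ne_bot hZ hb.symm) |> fun ⟨y, hy⟩ =>
    (⟨y.1, y.2, fun e => hy (Subtype.ext e)⟩ : ∃ d, d ∈ stabilizer G a ⊓ stabilizer G b ∧ d ≠ 1)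
  have hdN : d ∈ Subgroup.normalizer (U : Set G) := by
    refine Subgroup.mem_normalizer_iff.mpr fun y => ⟨fun hy => hUn d hd.1 y hy, fun hy => ?_⟩
    have := hUn d⁻¹ (inv_mem hd.1) _ hy
    simpa [mul_assoc] using this
  have hNA : S.N ≤ S.A :=
    Subgroup.subgroupOf_eq_top.mp (Subgroup.index_eq_one.mp (show (S.A.subgroupOf S.N).index = 1 by
      rw [S.index_A, hj1]))
  exact hd1 (hsemi d (hNA hdN) b hb hd.2)

end CfsgLib.CAEven
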